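import Cfsg.Agent.ChevG2.Involutions
import Cfsg.Agent.ChevParabolic.Sylow
import Cfsg.Agent.ChevInvol.RootPairs
import Cfsg.Agent.Weyl.RootG2

/-!
# The two classes of involutions of G2 in characteristic two
-/

set_option autoImplicit false

namespace CfsgLib.ChevG2

open Cfsg.Lie CfsgLib.Chevalley

variable {F : Type*} [Field F] [CharP F 2]

/-- The long roots. -/
def longRoot (r : ℕ) : Bool := [0, 1, 5, 6, 10, 11].contains r

theorem longRoot_closed (i : Fin chevG2.rank) (r : Root chevG2) (h : longRoot r = true) :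
    longRoot (chevG2.reflectRoot i r) = true := by
  have key : ∀ i < 2, ∀ r < 12, longRoot r = true → longRoot (chevG2.reflectRoot i r) = true := by
    decide +kernel
  exact key i i.2 r r.2 h

theorem rootPerm_long (w : CoxeterMatrix.G₂.Group) (r : Root chevG2) (h : longRoot r = true) :
    longRoot (Weyl.rootG2_good.rootPerm w r) = true :=
  ChevInvol.rootPerm_mem_class Weyl.rootG2_good longRoot_closed w r h

theorem orderOf_x {k : Fin 12} (hk : 6 ≤ k.1) : orderOf (x k (1 : F)) = 2 := by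
  refine orderOf_eq_prime ?_ fun e => one_ne_zero (eq_zero_of_x_eq_one hk e)
  rw [pow_two, x_add, CharTwo.add_self_eq_zero, x_zero]

theorem commute_x11 {u : GL chevG2.Idx F} (hu : u ∈ chevG2.posUnipotent F) (t : F) :
    x 11 t * u = u * x 11 t := by
  obtain ⟨e, p, r, s, c, d, rfl⟩ := exists_form hu
  simp only [mul_assoc, s116', s117', s118', s119', s1110']
  rw [x_add, x_add, add_comm]

theorem not_conj {g : GL chevG2.Idx F} (hg : g ∈ chevG2.group F) :
    g * x 11 1 * g⁻¹ ≠ x 9 (1 : F) := by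
  intro e
  obtain ⟨u, hu, y, hy, w, u', hu', rfl⟩ := ChevInvol.exists_bruhat hW Weyl.rootG2_good hg
  obtain ⟨c, hc⟩ := (monBy_nW (F := F) hW Weyl.rootG2_good w).conj_X (⟨11, by decide⟩ : Root chevG2)
  obtain ⟨a, ha⟩ := diag_conj_X hW hy (Weyl.rootG2_good.rootPerm w ⟨11, by decide⟩)
  set s := Weyl.rootG2_good.rootPerm w ⟨11, by decide⟩ with hs
  have h1 : y * nW hW Weyl.rootG2_good F w * x 11 1 * (y * nW hW Weyl.rootG2_good F w)⁻¹ =
      X hW.good s ((a : F) * ((c : F) * 1)) := by
    rw [show y * nW hW Weyl.rootG2_good F w * x 11 1 * (y * nW hW Weyl.rootG2_good F w)⁻¹ =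
      y * (nW hW Weyl.rootG2_good F w * x 11 1 * (nW hW Weyl.rootG2_good F w)⁻¹) * y⁻¹ by group]
    exact (congrArg (fun z => y * z * y⁻¹) (hc 1)).trans (ha _)
  have h2 : X hW.good s ((a : F) * ((c : F) * 1)) = u⁻¹ * x 9 1 * u := by
    rw [← h1, ← e]
    calc y * nW hW Weyl.rootG2_good F w * x 11 1 * (y * nW hW Weyl.rootG2_good F w)⁻¹
        = u⁻¹ * (u * y * nW hW Weyl.rootG2_good F w * (x 11 1 * u') * u'⁻¹ *
            (u * y * nW hW Weyl.rootG2_good F w)⁻¹) * u := by group
      _ = _ := by rw [commute_x11 hu']; group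
  set z := (x 9 1)⁻¹ * (u⁻¹ * x 9 1 * u) with hz
  have hzm : z ∈ uGe hW.good F false 10 :=
    ChevParabolic.conj_pos_mod hW.toGoodComm (r := (⟨9, by decide⟩ : Root chevG2))
      (by decide +kernel) 1 hu
  have h3 : X hW.good s ((a : F) * ((c : F) * 1)) = X hW.good (⟨9, by decide⟩ : Root chevG2) 1 * z := by
    rw [h2, hz]
    exact (mul_inv_cancel_left _ _).symm
  have hpos : half chevG2 ≤ (s : ℕ) := by
    refine key_of_X_mem (b := false) hW.toGoodUni (t := (a : F) * ((c : F) * 1)) (by simp)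
      (m := half chevG2) ?_
    rw [h3]
    exact mul_mem (x_mem_uGe (k := 9) (by decide) (by decide +kernel) 1)
      (uGe_mono hW.good (by decide +kernel) hzm)
  have h4 := (ChevParabolic.eq_of_X_mul hW.toGoodUni (r := (⟨9, by decide⟩ : Root chevG2))
    (by decide +kernel) hpos (by simp) one_ne_zero hzm h3).1
  have h5 := rootPerm_long w ⟨11, by decide⟩ (by decide)
  rw [← hs, h4] at h5
  exact absurd h5 (by decide)

theorem toRep_of_involution [Fintype F] {g : GL chevG2.Idx F} (hg : g ∈ chevG2.group F)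
    (h2 : orderOf g = 2) : ToRep g := by
  have hsq : g * g = 1 := by rw [← pow_two, ← h2, pow_orderOf_eq_one]
  have hne : g ≠ 1 := fun e => by simp [e] at h2
  obtain ⟨k, hk, hu⟩ := ChevParabolic.exists_conj_mem_pos hW Weyl.rootG2_good 2 hg
    (k := 1) (by rw [pow_one, ← h2, pow_orderOf_eq_one])
  exact ToRep.of_conj hk (toRep_of_mem_pos hu (conj_sq hsq) fun hh => hne (conj_eq_one_iff.1 hh))

end CfsgLib.ChevG2
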