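import Cfsg.Agent.ChevG2.Relations
import Cfsg.Agent.ChevParabolic.RadicalCentralizer
import Cfsg.Agent.ChevTorus.Generators
import Mathlib.FieldTheory.Finite.Basic

/-!
# Involutions of G2 in characteristic two: reduction to two representatives
-/

set_option autoImplicit false

namespace CfsgLib.ChevG2

open Cfsg.Lie CfsgLib.Chevalley

variable {F : Type*} [Field F]

/-- The two representatives. -/
def IsRep (y : GL chevG2.Idx F) : Prop := y = x 11 1 ∨ y = x 9 1

/-- Conjugate in the group to a representative. -/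
def ToRep (g : GL chevG2.Idx F) : Prop :=
  ∃ h ∈ chevG2.group F, IsRep (h * g * h⁻¹)

theorem ToRep.of_conj {g k : GL chevG2.Idx F} (hk : k ∈ chevG2.group F)
    (h : ToRep (k * g * k⁻¹)) : ToRep g := by
  obtain ⟨m, hm, hr⟩ := h
  refine ⟨m * k, mul_mem hm hk, ?_⟩
  rwa [show m * k * g * (m * k)⁻¹ = m * (k * g * k⁻¹) * m⁻¹ by group]

theorem conj_sq {g k : GL chevG2.Idx F} (h : g * g = 1) : k * g * k⁻¹ * (k * g * k⁻¹) = 1 := by
  rw [show k * g * k⁻¹ * (k * g * k⁻¹) = k * (g * g) * k⁻¹ by group, h, mul_one, mul_inv_cancel]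

theorem x_mem_uGe {k : Fin 12} {m : ℕ} (hk : 6 ≤ k.1) (hm : m ≤ k.1) (t : F) :
    x k t ∈ uGe hW.good F false m :=
  X_mem_uGe _ (show half chevG2 ≤ key false (⟨k.1, k.2⟩ : Root chevG2) from hk) hm t

theorem head_eq_zero {k : Fin 12} {t : F} {z : GL chevG2.Idx F} (hk : 6 ≤ k.1)
    (hz : z ∈ uGe hW.good F false (k.1 + 1)) (e : x k t * z = 1) : t = 0 := by
  by_contra ht
  refine ChevParabolic.X_notMem_uGe (r := (⟨k.1, k.2⟩ : Root chevG2)) hW.toGoodUni hk ht le_rfl ?_
  show x k t ∈ _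
  rw [eq_inv_of_mul_eq_one_left e]
  exact inv_mem hz

theorem eq_zero_of_x_eq_one {k : Fin 12} {t : F} (hk : 6 ≤ k.1) (e : x k t = 1) : t = 0 :=
  head_eq_zero hk (one_mem _) (by rw [mul_one, e])

/-- The fundamental element `n_a`. -/
def na : GL chevG2.Idx F := nR hW (⟨0, by decide⟩ : Fin chevG2.rank)

/-- The fundamental element `n_b`. -/
def nb : GL chevG2.Idx F := nR hW (⟨1, by decide⟩ : Fin chevG2.rank)

theorem na_mem : (na : GL chevG2.Idx F) ∈ chevG2.group F := nR_mem_group hW _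
theorem nb_mem : (nb : GL chevG2.Idx F) ∈ chevG2.group F := nR_mem_group hW _

theorem eta_cast [CharP F 2] (i : Fin chevG2.rank) (r : Root chevG2) :
    (eta chevG2 i r : F) = 1 := by
  rcases Int.eq_one_or_neg_one_of_mul_eq_one (hW.eta_sq i r) with e | e <;>
    simp [e, CharTwo.neg_eq]

theorem nR_conj_x [CharP F 2] (i : Fin chevG2.rank) (k l : Fin 12)
    (h : chevG2.reflectRoot i k = l) (t : F) :
    nR hW i * x k t * (nR hW i)⁻¹ = x l t := by
  rw [x, nR_conj, eta_cast, one_mul, x]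
  congr 1
  exact Fin.ext ((hW.wPerm_val i _).trans h)

section char2

variable [CharP F 2]

theorem na6 (t : F) : na * x 6 t * na⁻¹ = x 10 t := nR_conj_x _ _ _ (by decide +kernel) t
theorem na8 (t : F) : na * x 8 t * na⁻¹ = x 9 t := nR_conj_x _ _ _ (by decide +kernel) t
theorem na9 (t : F) : na * x 9 t * na⁻¹ = x 8 t := nR_conj_x _ _ _ (by decide +kernel) t
theorem na10 (t : F) : na * x 10 t * na⁻¹ = x 6 t := nR_conj_x _ _ _ (by decide +kernel) t
theorem na11 (t : F) : na * x 11 t * na⁻¹ = x 11 t := nR_conj_x _ _ _ (by decide +kernel) t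
theorem nb7 (t : F) : nb * x 7 t * nb⁻¹ = x 8 t := nR_conj_x _ _ _ (by decide +kernel) t
theorem nb8 (t : F) : nb * x 8 t * nb⁻¹ = x 7 t := nR_conj_x _ _ _ (by decide +kernel) t
theorem nb9 (t : F) : nb * x 9 t * nb⁻¹ = x 9 t := nR_conj_x _ _ _ (by decide +kernel) t
theorem nb10 (t : F) : nb * x 10 t * nb⁻¹ = x 11 t := nR_conj_x _ _ _ (by decide +kernel) t
theorem nb11 (t : F) : nb * x 11 t * nb⁻¹ = x 10 t := nR_conj_x _ _ _ (by decide +kernel) t

theorem toRep_x11 {d : F} (hd : d ≠ 0) : ToRep (x 11 d) := by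
  refine ⟨hT F (pRoot hW (⟨1, by decide⟩ : Fin chevG2.rank)) (Units.mk0 d hd)⁻¹,
    diag_le_group hW (hT_mem_diagonal hW _ _), Or.inl ?_⟩
  rw [x, hT_pRoot_conj_X, x]
  congr 1
  rw [show chevG2.cartan ((⟨1, by decide⟩ : Fin chevG2.rank) : ℕ) (((11 : Fin 12)) : ℕ) = 1 from by
    decide +kernel, zpow_one, Units.val_inv_eq_inv_val, Units.val_mk0, inv_mul_cancel₀ hd]

theorem toRep_x9 {d : F} (hd : d ≠ 0) : ToRep (x 9 d) := by
  refine ⟨hT F (pRoot hW (⟨0, by decide⟩ : Fin chevG2.rank)) (Units.mk0 d hd)⁻¹,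
    diag_le_group hW (hT_mem_diagonal hW _ _), Or.inr ?_⟩
  rw [x, hT_pRoot_conj_X, x]
  congr 1
  rw [show chevG2.cartan ((⟨0, by decide⟩ : Fin chevG2.rank) : ℕ) (((9 : Fin 12)) : ℕ) = 1 from by
    decide +kernel, zpow_one, Units.val_inv_eq_inv_val, Units.val_mk0, inv_mul_cancel₀ hd]

/-- Long root elements. -/
theorem toRep_long (c d : F) (h0 : x 10 c * x 11 d ≠ 1) : ToRep (x 10 c * x 11 d) := by
  by_cases hc : c = 0
  · subst hc
    rw [x_zero, one_mul] at h0 ⊢
    exact toRep_x11 fun e => h0 (by rw [e, x_zero])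
  · refine ToRep.of_conj (mem_x 6 (d / c)) ?_
    have e : x 6 (d / c) * (x 10 c * x 11 d) * (x 6 (d / c))⁻¹ = x 10 c := by
      simp only [x_inv, mul_assoc, s116, s116', s106, s106', x_add, x_add', CharTwo.add_self_eq_zero,
        x_zero, one_mul, mul_one]
      have h1 : d / c * c + d = 0 := by rw [div_mul_cancel₀ d hc, CharTwo.add_self_eq_zero]
      simp [h1, x_zero]
    rw [e]
    refine ToRep.of_conj nb_mem ?_
    rw [nb10]
    exact toRep_x11 hc

/-- Elements with short component only at `2a + b`. -/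
theorem toRep_short (s c d : F) (hs : s ≠ 0) : ToRep (x 9 s * (x 10 c * x 11 d)) := by
  refine ToRep.of_conj (mul_mem (mem_x 7 (c / s)) (mem_x 8 (d / s))) ?_
  have e : x 7 (c / s) * x 8 (d / s) * (x 9 s * (x 10 c * x 11 d)) *
      (x 7 (c / s) * x 8 (d / s))⁻¹ = x 9 s := by
    simp only [mul_inv_rev, x_inv, mul_assoc, s118, s118', s108, s108', s98, s98', s117, s117',
      s107, s107', s97, s97', s1110, s1110', s119, s119', s109, s109', x_add, x_add', CharTwo.add_self_eq_zero,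
      x_zero, one_mul, mul_one]
    have h1 : c / s * s + c = 0 := by rw [div_mul_cancel₀ c hs, CharTwo.add_self_eq_zero]
    have h2 : d / s * s + d = 0 := by rw [div_mul_cancel₀ d hs, CharTwo.add_self_eq_zero]
    simp [h1, h2, x_zero]
  rw [e]
  exact toRep_x9 hs

theorem uGe_tail (c d : F) : x 10 c * x 11 d ∈ uGe hW.good F false 10 :=
  mul_mem (x_mem_uGe (by decide) (by decide) _) (x_mem_uGe (by decide) (by decide) _)

/-- Involutions of `Q` with nonzero component at `a`. -/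
theorem toRep_of_a [Finite F] (p r s c d : F) (hp : p ≠ 0)
    (h2 : x 7 p * (x 8 r * (x 9 s * (x 10 c * x 11 d))) *
      (x 7 p * (x 8 r * (x 9 s * (x 10 c * x 11 d)))) = 1) :
    ToRep (x 7 p * (x 8 r * (x 9 s * (x 10 c * x 11 d)))) := by
  refine ToRep.of_conj (mem_x 6 (r / p)) ?_
  have h0 : r / p * p + r = 0 := by rw [div_mul_cancel₀ r hp, CharTwo.add_self_eq_zero]
  obtain ⟨s', c', d', e⟩ : ∃ s' c' d' : F,
      x 6 (r / p) * (x 7 p * (x 8 r * (x 9 s * (x 10 c * x 11 d)))) * (x 6 (r / p))⁻¹ =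
        x 7 p * (x 9 s' * (x 10 c' * x 11 d')) := by
    simp only [x_inv, mul_assoc, s116, s116', s106, s106', s96, s96', s86, s86', s76, s76',
      s98, s98', s108, s108', s118, s118', s109, s109', s119, s119', s1110, s1110',
      x_add, x_add', CharTwo.add_self_eq_zero, x_zero, one_mul, mul_one, h0]
    exact ⟨_, _, _, rfl⟩
  have h3 := conj_sq (k := x 6 (r / p)) h2
  rw [e] at h3 ⊢
  simp only [mul_assoc, s117, s117', s107, s107', s97, s97', s119, s119', s109, s109', s1110,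
    s1110', x_add, x_add', CharTwo.add_self_eq_zero, x_zero, one_mul, mul_one] at h3
  have hs' : s' = 0 := by
    have := eq_zero_of_x_eq_one (k := 10) (by decide) h3
    simpa [hp] using this
  subst hs'
  rw [x_zero, one_mul]
  obtain ⟨v, hv⟩ := FiniteField.isSquare_of_char_two (ringChar.eq F 2) (d' / p)
  have hd : p * (v * v) + d' = 0 := by
    rw [← hv, mul_div_cancel₀ d' hp, CharTwo.add_self_eq_zero]
  refine ToRep.of_conj (mul_mem (mem_x 9 ((c' + p ^ 2 * v) / p)) (mem_x 8 v)) ?_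
  have e2 : x 9 ((c' + p ^ 2 * v) / p) * x 8 v * (x 7 p * (x 10 c' * x 11 d')) *
      (x 9 ((c' + p ^ 2 * v) / p) * x 8 v)⁻¹ = x 7 p := by
    have h1 : p * ((c' + p ^ 2 * v) / p) + (p ^ 2 * v + c') = 0 := by
      rw [mul_div_cancel₀ _ hp, add_comm c', CharTwo.add_self_eq_zero]
    simp only [mul_inv_rev, x_inv, mul_assoc, s87, s87', s97, s97', s98, s98', s117, s117', s107,
      s107', s108, s108', s118, s118', s119, s119', s109, s109', s1110, s1110', x_add, x_add',
      CharTwo.add_self_eq_zero, x_zero, one_mul, mul_one]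
    have e10 : p ^ 2 * v + (p * ((c' + p ^ 2 * v) / p) + c') = 0 := by
      linear_combination h1
    have h22 : v * ((c' + p ^ 2 * v) / p) + v * ((c' + p ^ 2 * v) / p) = 0 :=
      CharTwo.add_self_eq_zero _
    have e11 : v * ((c' + p ^ 2 * v) / p) + (p * v ^ 2 + (v * ((c' + p ^ 2 * v) / p) + d')) = 0 := by
      linear_combination hd + h22
    rw [e10, e11, x_zero, x_zero, one_mul, mul_one]
  rw [e2]
  refine ToRep.of_conj nb_mem ?_
  rw [nb7]
  refine ToRep.of_conj na_mem ?_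
  rw [na8]
  exact toRep_x9 hp

/-- Involutions of `Q`. -/
theorem toRep_of_Q [Finite F] (p r s c d : F)
    (h2 : x 7 p * (x 8 r * (x 9 s * (x 10 c * x 11 d))) *
      (x 7 p * (x 8 r * (x 9 s * (x 10 c * x 11 d)))) = 1)
    (hne : x 7 p * (x 8 r * (x 9 s * (x 10 c * x 11 d))) ≠ 1) :
    ToRep (x 7 p * (x 8 r * (x 9 s * (x 10 c * x 11 d)))) := by
  by_cases hp : p = 0
  swap
  · exact toRep_of_a p r s c d hp h2
  subst hp
  by_cases hr : r = 0
  · subst hr
    simp only [x_zero, one_mul] at hne ⊢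
    by_cases hs : s = 0
    · subst hs
      simp only [x_zero, one_mul] at hne ⊢
      exact toRep_long c d hne
    · exact toRep_short s c d hs
  refine ToRep.of_conj nb_mem ?_
  have hconj : ∀ y z : GL chevG2.Idx F, nb * (y * z) * nb⁻¹ = (nb * y * nb⁻¹) * (nb * z * nb⁻¹) :=
    fun y z => by group
  have h3 := conj_sq (k := nb) h2
  simp only [hconj, nb7, nb8, nb9, nb10, nb11, x_zero, one_mul] at h3 ⊢
  have e : x 7 r * (x 9 s * (x 11 c * x 10 d)) = x 7 r * (x 8 0 * (x 9 s * (x 10 d * x 11 c))) := by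
    rw [x_zero, one_mul, s1110]
  rw [e] at h3 ⊢
  exact toRep_of_a r 0 s d c hr h3

/-- Involutions with components at `b, a+b, 2a+b, 3a+2b`. -/
theorem toRep_of_c_zero [Finite F] (e r s d : F)
    (h2 : x 6 e * (x 8 r * (x 9 s * x 11 d)) * (x 6 e * (x 8 r * (x 9 s * x 11 d))) = 1)
    (hne : x 6 e * (x 8 r * (x 9 s * x 11 d)) ≠ 1) :
    ToRep (x 6 e * (x 8 r * (x 9 s * x 11 d))) := by
  refine ToRep.of_conj na_mem ?_
  have hconj : ∀ y z : GL chevG2.Idx F, na * (y * z) * na⁻¹ = (na * y * na⁻¹) * (na * z * na⁻¹) :=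
    fun y z => by group
  have h3 := conj_sq (k := na) h2
  have h4 : na * (x 6 e * (x 8 r * (x 9 s * x 11 d))) * na⁻¹ ≠ 1 := fun hh => hne (by
    rwa [conj_eq_one_iff] at hh)
  simp only [hconj, na6, na8, na9, na11] at h3 h4 ⊢
  obtain ⟨s', c', d', e'⟩ : ∃ s' c' d' : F, x 10 e * (x 9 r * (x 8 s * x 11 d)) =
      x 7 0 * (x 8 s * (x 9 s' * (x 10 c' * x 11 d'))) := by
    simp only [mul_assoc, s98, s98', s108, s108', s109, s109', s1110, s1110', x_add, x_add',
      x_zero, one_mul]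
    exact ⟨_, _, _, rfl⟩
  rw [e'] at h3 h4 ⊢
  exact toRep_of_Q 0 s s' c' d' h3 h4

/-- Involutions with components at the positive roots other than `a`. -/
theorem toRep_of_compl [Finite F] (e r s c d : F)
    (h2 : x 6 e * (x 8 r * (x 9 s * (x 10 c * x 11 d))) *
      (x 6 e * (x 8 r * (x 9 s * (x 10 c * x 11 d)))) = 1)
    (hne : x 6 e * (x 8 r * (x 9 s * (x 10 c * x 11 d))) ≠ 1) :
    ToRep (x 6 e * (x 8 r * (x 9 s * (x 10 c * x 11 d)))) := by
  by_cases he : e = 0
  · subst he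
    have e0 : x 6 (0 : F) * (x 8 r * (x 9 s * (x 10 c * x 11 d))) =
        x 7 0 * (x 8 r * (x 9 s * (x 10 c * x 11 d))) := by rw [x_zero, x_zero]
    rw [e0] at h2 hne ⊢
    exact toRep_of_Q 0 r s c d h2 hne
  by_cases hc : c = 0
  · subst hc
    simp only [x_zero, one_mul] at h2 hne ⊢
    exact toRep_of_c_zero e r s d h2 hne
  refine ToRep.of_conj (mem_x 7 (r / e)) ?_
  have h0 : e * (r / e) + r = 0 := by rw [mul_div_cancel₀ r he, CharTwo.add_self_eq_zero]
  have hne' : x 7 (r / e) * (x 6 e * (x 8 r * (x 9 s * (x 10 c * x 11 d)))) * (x 7 (r / e))⁻¹ ≠ 1 :=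
    fun hh => hne (by rwa [conj_eq_one_iff] at hh)
  obtain ⟨s', c', d', e'⟩ : ∃ s' c' d' : F,
      x 7 (r / e) * (x 6 e * (x 8 r * (x 9 s * (x 10 c * x 11 d)))) * (x 7 (r / e))⁻¹ =
        x 6 e * (x 9 s' * (x 10 c' * x 11 d')) := by
    simp only [x_inv, mul_assoc, s76, s76', s117, s117', s107, s107', s97, s97', s87, s87',
      s98, s98', s108, s108', s118, s118', s109, s109', s119, s119', s1110, s1110',
      x_add, x_add', CharTwo.add_self_eq_zero, x_zero, one_mul, mul_one, h0]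
    exact ⟨_, _, _, rfl⟩
  have h3 := conj_sq (k := x 7 (r / e)) h2
  rw [e'] at h3 hne' ⊢
  have h4 := h3
  simp only [mul_assoc, s96, s96', s106, s106', s116, s116', s109, s109', s119, s119', s1110,
    s1110', x_add, x_add', CharTwo.add_self_eq_zero, x_zero, one_mul, mul_one] at h4
  have hc' : c' = 0 := by
    have := eq_zero_of_x_eq_one (k := 11) (by decide) h4
    simpa [he] using this
  subst hc'
  have e0 : x 6 e * (x 9 s' * (x 10 (0 : F) * x 11 d')) = x 6 e * (x 8 0 * (x 9 s' * x 11 d')) := by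
    rw [x_zero, x_zero, one_mul, one_mul]
  rw [e0] at h3 hne' ⊢
  exact toRep_of_c_zero e 0 s' d' h3 hne'

theorem tail8 (a b c : F) (z : F) :
    x 8 z * (x 9 a * (x 10 b * x 11 c)) ∈ uGe hW.good F false 8 :=
  mul_mem (x_mem_uGe (by decide) (by decide) _) (mul_mem (x_mem_uGe (by decide) (by decide) _)
    (uGe_mono hW.good (by decide) (uGe_tail b c)))

theorem exists_form {g : GL chevG2.Idx F} (hg : g ∈ chevG2.posUnipotent F) :
    ∃ e p r s c d : F, g = x 6 e * (x 7 p * (x 8 r * (x 9 s * (x 10 c * x 11 d)))) := by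
  rw [posUnipotent_eq hW.good] at hg
  obtain ⟨t, ht⟩ := exists_prodFrom hW.toGoodComm 6 (half chevG2) le_rfl rfl g hg
  refine ⟨t 6, t 7, t 8, t 9, t 10, t 11, ?_⟩
  rw [← ht, prodFrom, show half chevG2 = 6 from by decide +kernel]
  have hr : ∀ k : Fin 12, rootOf hW.good false k.1 = (⟨k.1, k.2⟩ : Root chevG2) :=
    fun k => rootOf_false hW.good k.2
  simp only [List.range'_succ, List.range'_zero, List.map_cons, List.map_nil, List.prod_cons,
    List.prod_nil, mul_one, x, ← hr]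
  rfl

/-- Every involution of `U` is conjugate to a representative. -/
theorem toRep_of_mem_pos [Finite F] {g : GL chevG2.Idx F} (hg : g ∈ chevG2.posUnipotent F)
    (h2 : g * g = 1) (hne : g ≠ 1) : ToRep g := by
  obtain ⟨e, p, r, s, c, d, rfl⟩ := exists_form hg
  by_cases he : e = 0
  · subst he
    simp only [x_zero, one_mul] at h2 hne ⊢
    exact toRep_of_Q p r s c d h2 hne
  by_cases hp : p = 0
  · subst hp
    simp only [x_zero, one_mul] at h2 hne ⊢
    exact toRep_of_compl e r s c d h2 hne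
  exfalso
  have key : ∃ s' c' d' : F, x 6 e * (x 7 p * (x 8 r * (x 9 s * (x 10 c * x 11 d)))) *
      (x 6 e * (x 7 p * (x 8 r * (x 9 s * (x 10 c * x 11 d))))) =
        x 8 (e * p) * (x 9 s' * (x 10 c' * x 11 d')) := by
    simp only [mul_assoc, s116, s116', s106, s106', s96, s96', s86, s86', s76, s76', s117, s117',
      s107, s107', s97, s97', s87, s87', s98, s98', s108, s108', s118, s118', s109, s109', s119,
      s119', s1110, s1110', x_add, x_add', CharTwo.add_self_eq_zero, x_zero, one_mul, mul_one]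
    exact ⟨_, _, _, rfl⟩
  obtain ⟨s', c', d', e'⟩ := key
  rw [e'] at h2
  have := head_eq_zero (k := 8) (by decide) (mul_mem (x_mem_uGe (by decide) (by decide) _)
    (uGe_mono hW.good (by decide) (uGe_tail c' d'))) h2
  exact mul_ne_zero he hp this

end char2

end CfsgLib.ChevG2
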