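import Cfsg.Agent.Chevalley.WeylData
import Cfsg.Agent.Chevalley.Borel
import Cfsg.Agent.ChevInvol.Bruhat
import Mathlib.Algebra.CharP.Two

/-!
# The unipotent subgroup of G2 in characteristic two
-/

set_option autoImplicit false

namespace CfsgLib.ChevG2

open Cfsg.Lie CfsgLib.Chevalley

theorem hW : GoodWeyl chevG2 := goodWeyl_of_mem (by simp)

variable {F : Type*} [Field F]

/-- The root elements of G2, indexed by `Fin 12`. -/
def x (k : Fin 12) (t : F) : GL chevG2.Idx F := X hW.good (⟨k.1, k.2⟩ : Root chevG2) t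

theorem mem_x (k : Fin 12) (t : F) : x k t ∈ chevG2.group F := X_mem_group _ _ _

theorem x_mem_pos {k : Fin 12} (hk : 6 ≤ k.1) (t : F) : x k t ∈ chevG2.posUnipotent F :=
  X_mem_pos _ (show half chevG2 ≤ k.1 from hk) _

theorem coe_x (k : Fin 12) (t : F) :
    ((x k t : GL chevG2.Idx F) : Matrix chevG2.Idx chevG2.Idx F) = chevG2.x F k t :=
  (x_eq_xR hW.good F _ t).symm

theorem x_zero (k : Fin 12) : x k (0 : F) = 1 := X_zero _ _

theorem x_add (k : Fin 12) (s t : F) : x k s * x k t = x k (s + t) := X_mul _ _ _ _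

theorem x_add' (k : Fin 12) (s t : F) (R : GL chevG2.Idx F) :
    x k s * (x k t * R) = x k (s + t) * R := by rw [← mul_assoc, x_add]

variable [CharP F 2]

theorem x_inv (k : Fin 12) (t : F) : (x k t)⁻¹ = x k t := by
  rw [x, X_inv, CharTwo.neg_eq]

theorem cast_parity (z : ℤ) : (z : F) = if Even z then 0 else 1 := by
  rcases Int.even_or_odd' z with ⟨k, rfl | rfl⟩ <;> simp [CharTwo.two_eq_zero]

theorem swap_of_terms {i j : Fin 12} (hne : j ≠ i) (hne' : j.1 + i.1 ≠ 11)
    (L : List (ℕ × ℤ × ℕ × ℕ)) (hL : chevG2.commTerms i j = L) (t u : F) :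
    x j u * x i t = x i t * x j u *
      wordGL hW.good (L.map fun c => (c.1, (if Even c.2.1 then 0 else 1 : F) * t ^ c.2.2.1 *
        u ^ c.2.2.2)) := by
  have h := X_comm hW.toGoodComm (⟨i.1, i.2⟩ : Root chevG2) ⟨j.1, j.2⟩
    (fun e => hne (Fin.ext (Fin.ext_iff.1 e :))) (fun e => hne' (by
      have := Fin.ext_iff.1 e
      simp only [Fin.val_rev] at this
      change j.1 = 12 - (i.1 + 1) at this
      have := i.2
      omega)) t u
  rw [x, x, h, commRhs, hL]
  congr 2
  refine List.map_congr_left fun c _ => ?_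
  rw [cast_parity, CharTwo.neg_eq]

theorem s76 (t u : F) : x 7 u * x 6 t =
    x 6 t * (x 7 u * (x 8 (t * u) * (x 9 (t * u ^ 2) * x 10 (t * u ^ 3)))) := by
  rw [swap_of_terms (by decide) (by decide)
    [(8, 1, 1, 1), (9, 1, 1, 2), (10, -1, 1, 3), (11, -2, 2, 3)] (by decide +kernel)]
  simp [wordGL, x, X_zero, mul_assoc, parity_simps, show ¬ Even (3 : ℤ) by decide, show (8 : ℕ) < chevG2.nroots by decide,
    show (9 : ℕ) < chevG2.nroots by decide, show (10 : ℕ) < chevG2.nroots by decide]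

theorem s87 (t u : F) : x 8 u * x 7 t =
    x 7 t * (x 8 u * (x 10 (t ^ 2 * u) * x 11 (t * u ^ 2))) := by
  rw [swap_of_terms (by decide) (by decide)
    [(9, -2, 1, 1), (10, -3, 2, 1), (11, 3, 1, 2)] (by decide +kernel)]
  simp [wordGL, x, X_zero, mul_assoc, parity_simps, show ¬ Even (3 : ℤ) by decide, show (10 : ℕ) < chevG2.nroots by decide,
    show (11 : ℕ) < chevG2.nroots by decide]

theorem s97 (t u : F) : x 9 u * x 7 t = x 7 t * (x 9 u * x 10 (t * u)) := by
  rw [swap_of_terms (by decide) (by decide) [(10, 3, 1, 1)] (by decide +kernel)]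
  simp [wordGL, x, mul_assoc, parity_simps, show ¬ Even (3 : ℤ) by decide, show (10 : ℕ) < chevG2.nroots by decide]

theorem s98 (t u : F) : x 9 u * x 8 t = x 8 t * (x 9 u * x 11 (t * u)) := by
  rw [swap_of_terms (by decide) (by decide) [(11, 3, 1, 1)] (by decide +kernel)]
  simp [wordGL, x, mul_assoc, parity_simps, show ¬ Even (3 : ℤ) by decide, show (11 : ℕ) < chevG2.nroots by decide]

theorem s106 (t u : F) : x 10 u * x 6 t = x 6 t * (x 10 u * x 11 (t * u)) := by
  rw [swap_of_terms (by decide) (by decide) [(11, 1, 1, 1)] (by decide +kernel)]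
  simp [wordGL, x, mul_assoc, show (11 : ℕ) < chevG2.nroots by decide]

theorem comm_of_nil {i j : Fin 12} (hne : j ≠ i) (hne' : j.1 + i.1 ≠ 11)
    (hL : chevG2.commTerms i j = []) (t u : F) : x j u * x i t = x i t * x j u := by
  rw [swap_of_terms hne hne' [] hL]
  simp [wordGL]

theorem s86 (t u : F) : x 8 u * x 6 t = x 6 t * x 8 u :=
  comm_of_nil (by decide) (by decide) (by decide +kernel) t u
theorem s96 (t u : F) : x 9 u * x 6 t = x 6 t * x 9 u :=
  comm_of_nil (by decide) (by decide) (by decide +kernel) t u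
theorem s116 (t u : F) : x 11 u * x 6 t = x 6 t * x 11 u :=
  comm_of_nil (by decide) (by decide) (by decide +kernel) t u
theorem s107 (t u : F) : x 10 u * x 7 t = x 7 t * x 10 u :=
  comm_of_nil (by decide) (by decide) (by decide +kernel) t u
theorem s117 (t u : F) : x 11 u * x 7 t = x 7 t * x 11 u :=
  comm_of_nil (by decide) (by decide) (by decide +kernel) t u
theorem s108 (t u : F) : x 10 u * x 8 t = x 8 t * x 10 u :=
  comm_of_nil (by decide) (by decide) (by decide +kernel) t u
theorem s118 (t u : F) : x 11 u * x 8 t = x 8 t * x 11 u :=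
  comm_of_nil (by decide) (by decide) (by decide +kernel) t u
theorem s109 (t u : F) : x 10 u * x 9 t = x 9 t * x 10 u :=
  comm_of_nil (by decide) (by decide) (by decide +kernel) t u
theorem s119 (t u : F) : x 11 u * x 9 t = x 9 t * x 11 u :=
  comm_of_nil (by decide) (by decide) (by decide +kernel) t u
theorem s1110 (t u : F) : x 11 u * x 10 t = x 10 t * x 11 u :=
  comm_of_nil (by decide) (by decide) (by decide +kernel) t u

/-- Rewriting with a rule inside a right-nested product. -/
theorem under {G : Type*} [Group G] {a b c : G} (e : a * b = c) (R : G) :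
    a * (b * R) = c * R := by rw [← mul_assoc, e]

theorem s76' (t u : F) (R : GL chevG2.Idx F) :
    x 7 u * (x 6 t * R) =
      (x 6 t * (x 7 u * (x 8 (t * u) * (x 9 (t * u ^ 2) * x 10 (t * u ^ 3))))) * R :=
  under (s76 t u) R
theorem s87' (t u : F) (R : GL chevG2.Idx F) :
    x 8 u * (x 7 t * R) =
      (x 7 t * (x 8 u * (x 10 (t ^ 2 * u) * x 11 (t * u ^ 2)))) * R :=
  under (s87 t u) R
theorem s97' (t u : F) (R : GL chevG2.Idx F) :
    x 9 u * (x 7 t * R) =
      (x 7 t * (x 9 u * x 10 (t * u))) * R :=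
  under (s97 t u) R
theorem s98' (t u : F) (R : GL chevG2.Idx F) :
    x 9 u * (x 8 t * R) =
      (x 8 t * (x 9 u * x 11 (t * u))) * R :=
  under (s98 t u) R
theorem s106' (t u : F) (R : GL chevG2.Idx F) :
    x 10 u * (x 6 t * R) =
      (x 6 t * (x 10 u * x 11 (t * u))) * R :=
  under (s106 t u) R
theorem s86' (t u : F) (R : GL chevG2.Idx F) :
    x 8 u * (x 6 t * R) =
      (x 6 t * x 8 u) * R :=
  under (s86 t u) R
theorem s96' (t u : F) (R : GL chevG2.Idx F) :
    x 9 u * (x 6 t * R) =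
      (x 6 t * x 9 u) * R :=
  under (s96 t u) R
theorem s116' (t u : F) (R : GL chevG2.Idx F) :
    x 11 u * (x 6 t * R) =
      (x 6 t * x 11 u) * R :=
  under (s116 t u) R
theorem s107' (t u : F) (R : GL chevG2.Idx F) :
    x 10 u * (x 7 t * R) =
      (x 7 t * x 10 u) * R :=
  under (s107 t u) R
theorem s117' (t u : F) (R : GL chevG2.Idx F) :
    x 11 u * (x 7 t * R) =
      (x 7 t * x 11 u) * R :=
  under (s117 t u) R
theorem s108' (t u : F) (R : GL chevG2.Idx F) :
    x 10 u * (x 8 t * R) =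
      (x 8 t * x 10 u) * R :=
  under (s108 t u) R
theorem s118' (t u : F) (R : GL chevG2.Idx F) :
    x 11 u * (x 8 t * R) =
      (x 8 t * x 11 u) * R :=
  under (s118 t u) R
theorem s109' (t u : F) (R : GL chevG2.Idx F) :
    x 10 u * (x 9 t * R) =
      (x 9 t * x 10 u) * R :=
  under (s109 t u) R
theorem s119' (t u : F) (R : GL chevG2.Idx F) :
    x 11 u * (x 9 t * R) =
      (x 9 t * x 11 u) * R :=
  under (s119 t u) R
theorem s1110' (t u : F) (R : GL chevG2.Idx F) :
    x 11 u * (x 10 t * R) =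
      (x 10 t * x 11 u) * R :=
  under (s1110 t u) R

end CfsgLib.ChevG2
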